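import Mathlib.RingTheory.Flat.Tensor
import Mathlib.Algebra.Module.CharacterModule
import Mathlib.Algebra.Module.Injective
import Mathlib.RingTheory.TensorProduct.Basic
import Mathlib.LinearAlgebra.Finsupp.LinearCombination
import Mathlib.RingTheory.Flat.Stability
import Mathlib.RingTheory.Finiteness.Descent
import Mathlib.RingTheory.Etale.Descent
import Mathlib.RingTheory.Smooth.Fiber
import Mathlib.RingTheory.Smooth.Flat

/-!
# Descent of flatness along universally injective ring maps
-/

set_option autoImplicit false
universe u

namespace Groth.Agent.Pi1Alg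

open TensorProduct

variable {R S : Type u} [CommRing R] [CommRing S] [Algebra R S]

/-- A section of the restriction map `S⋆ → R⋆`. -/
theorem exists_section
    (h : ∀ (P : Type u) [AddCommGroup P] [Module R P], Function.Injective (LinearMap.lTensor P (Algebra.linearMap R S))) :
    ∃ σ : CharacterModule R →ₗ[R] CharacterModule S,
      ∀ c : CharacterModule R, ∀ r : R, σ c (algebraMap R S r) = c r := by
  obtain ⟨Φ, hΦ⟩ := CharacterModule.dual_surjective_of_injective _ (h (CharacterModule R))
    (CharacterModule.uncurry (R := R) (A := CharacterModule R) (B := R) LinearMap.id)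
  refine ⟨CharacterModule.curry Φ, fun c r => ?_⟩
  exact DFunLike.congr_fun hΦ (c ⊗ₜ r)

theorem flat_of_univInjective
    (h : ∀ (P : Type u) [AddCommGroup P] [Module R P], Function.Injective (LinearMap.lTensor P (Algebra.linearMap R S)))
    (M : Type u) [AddCommGroup M] [Module R M] [Module.Flat S (S ⊗[R] M)] : Module.Flat R M := by
  obtain ⟨σ, hσ⟩ := exists_section h
  -- the free cover
  let π : (M →₀ R) →ₗ[R] M := Finsupp.linearCombination R id
  have hπ : Function.Surjective π := Finsupp.linearCombination_id_surjective R M
  haveI hI : Module.Injective S (CharacterModule (S ⊗[R] M)) := Module.Flat.iff_characterModule_injective.mp ‹_›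
  let πS : S ⊗[R] (M →₀ R) →ₗ[S] S ⊗[R] M := π.baseChange S
  have hπS : Function.Injective (CharacterModule.dual (R := S) πS) :=
    CharacterModule.dual_injective_of_surjective _ (LinearMap.lTensor_surjective S hπ)
  obtain ⟨ret, hret⟩ := Module.Injective.out (CharacterModule.dual (R := S) πS) hπS LinearMap.id
  -- functorial section
  have hs : ∀ (N : Type u) [AddCommGroup N] [Module R N], ∃ s : CharacterModule N →ₗ[R] CharacterModule (S ⊗[R] N),
      ∀ x c n, s x (c ⊗ₜ n) = σ (AddMonoidHom.comp x ((LinearMap.id (R := R) (M := R)).smulRight n).toAddMonoidHom) c := by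
    intro N _ _
    let e : CharacterModule N →ₗ[R] N →ₗ[R] CharacterModule R :=
      { toFun := fun x => { toFun := fun n => CharacterModule.dual ((LinearMap.id (R := R) (M := R)).smulRight n) x
                            map_add' := fun a b => by ext r; show x (r • (a + b)) = x (r • a) + x (r • b); rw [smul_add, map_add]
                            map_smul' := fun t a => by
                              ext r
                              show x (r • t • a) = x ((t * r) • a)
                              rw [smul_smul, mul_comm] }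
        map_add' := fun x y => by ext n r; rfl
        map_smul' := fun t x => by
          ext n r
          show x (t • r • n) = x ((t * r) • n)
          rw [smul_smul] }
    let sw : CharacterModule (N ⊗[R] S) →ₗ[R] CharacterModule (S ⊗[R] N) :=
      CharacterModule.dual (TensorProduct.comm R S N).toLinearMap
    exact ⟨sw ∘ₗ CharacterModule.uncurry ∘ₗ LinearMap.llcomp R N _ _ σ ∘ₗ e, fun x c n => rfl⟩
  obtain ⟨sM, hsM⟩ := hs M
  obtain ⟨sF, hsF⟩ := hs (M →₀ R)
  have hnat : ∀ x, sF (CharacterModule.dual π x) = CharacterModule.dual (R := S) πS (sM x) := by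
    intro x
    ext t
    induction t using TensorProduct.induction_on with
    | zero => rw [map_zero, map_zero]
    | tmul c n =>
      show sF (CharacterModule.dual π x) (c ⊗ₜ n) = sM x (c ⊗ₜ π n)
      rw [hsF, hsM]
      congr 2
      ext r
      show x (π (r • n)) = x (r • π n)
      rw [map_smul]
    | add a b ha hb => rw [map_add, map_add, ha, hb]
  let ev : CharacterModule (S ⊗[R] M) →ₗ[R] CharacterModule M :=
    CharacterModule.dual (TensorProduct.mk R S M 1)
  let retR : CharacterModule (S ⊗[R] (M →₀ R)) →ₗ[R] CharacterModule (S ⊗[R] M) :=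
    { toFun := ret
      map_add' := map_add ret
      map_smul' := fun t x => by
        have e1 : t • x = algebraMap R S t • x := by ext y; simp [algebraMap_smul]
        have e2 : t • ret x = algebraMap R S t • ret x := by ext y; simp [algebraMap_smul]
        show ret (t • x) = t • ret x
        rw [e1, e2, map_smul] }
  let r₀ : CharacterModule (M →₀ R) →ₗ[R] CharacterModule M := ev ∘ₗ retR ∘ₗ sF
  have hr₀ : ∀ x, r₀ (CharacterModule.dual π x) = x := by
    intro x
    show ev (ret (sF (CharacterModule.dual π x))) = x
    rw [hnat, hret]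
    ext m
    show sM x ((1 : S) ⊗ₜ m) = x m
    rw [hsM, ← map_one (algebraMap R S)]
    refine (hσ _ 1).trans ?_
    show x ((1 : R) • m) = x m
    rw [one_smul]
  rw [Module.Flat.iff_characterModule_injective]
  haveI : Module.Injective R (CharacterModule (M →₀ R)) := Module.Flat.iff_characterModule_injective.mp inferInstance
  refine ⟨fun X Y _ _ _ _ f hf g => ?_⟩
  obtain ⟨g', hg'⟩ := Module.Injective.out f hf (CharacterModule.dual π ∘ₗ g)
  exact ⟨r₀ ∘ₗ g', fun x => by
    show r₀ (g' (f x)) = g x
    rw [hg']; exact hr₀ _⟩

end Groth.Agent.Pi1Alg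

namespace Groth.Agent.Pi1Alg

open TensorProduct

variable {R S : Type u} [CommRing R] [CommRing S] [Algebra R S]

theorem one_tmul_injective
    (h : ∀ (P : Type u) [AddCommGroup P] [Module R P], Function.Injective (LinearMap.lTensor P (Algebra.linearMap R S)))
    (N : Type u) [AddCommGroup N] [Module R N] (x : N) (hx : (1 : S) ⊗ₜ[R] x = 0) : x = 0 := by
  have h1 : LinearMap.lTensor N (Algebra.linearMap R S) (x ⊗ₜ 1) = 0 := by
    rw [LinearMap.lTensor_tmul, Algebra.linearMap_apply, map_one]
    simpa using congrArg (TensorProduct.comm R S N) hx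
  have h2 := h N (h1.trans (map_zero _).symm)
  simpa using congrArg (TensorProduct.rid R N) h2

theorem surjective_of_univInjective
    (h : ∀ (P : Type u) [AddCommGroup P] [Module R P], Function.Injective (LinearMap.lTensor P (Algebra.linearMap R S)))
    {M N : Type u} [AddCommGroup M] [Module R M] [AddCommGroup N] [Module R N] (f : M →ₗ[R] N)
    (hf : Function.Surjective (f.lTensor S)) : Function.Surjective f := by
  intro n
  rw [← LinearMap.mem_range, ← Submodule.Quotient.mk_eq_zero]
  apply one_tmul_injective h
  obtain ⟨y, hy⟩ := hf ((1 : S) ⊗ₜ n)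
  have := congrArg ((LinearMap.range f).mkQ.lTensor S) hy
  rw [LinearMap.lTensor_tmul, ← LinearMap.comp_apply, ← LinearMap.lTensor_comp,
    LinearMap.range_mkQ_comp, LinearMap.lTensor_zero, LinearMap.zero_apply] at this
  exact this.symm

theorem finiteType_of_univInjective
    (h : ∀ (P : Type u) [AddCommGroup P] [Module R P], Function.Injective (LinearMap.lTensor P (Algebra.linearMap R S)))
    (A : Type u) [CommRing A] [Algebra R A] [Algebra.FiniteType S (S ⊗[R] A)] : Algebra.FiniteType R A := by
  obtain ⟨s, hs⟩ := Algebra.FiniteType.out (R := S) (A := S ⊗[R] A)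
  have (x : s) := TensorProduct.exists_sum_tmul_eq x.1
  choose k t m hk using this
  let f : MvPolynomial (Σ x : s, Fin (k x)) R →ₐ[R] A := MvPolynomial.aeval (fun ⟨x, i⟩ ↦ m x i)
  apply Algebra.FiniteType.of_surjective f
  have hf : Function.Surjective (Algebra.TensorProduct.map (.id S S) f) := by
    rw [← AlgHom.range_eq_top, _root_.eq_top_iff, ← hs, Algebra.adjoin_le_iff]
    intro x hx
    let i : s := ⟨x, hx⟩
    use ∑ (j : Fin (k i)), t i j ⊗ₜ MvPolynomial.X ⟨i, j⟩
    simp [f, ← hk, i]
  exact surjective_of_univInjective h f.toLinearMap hf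

attribute [local instance] Algebra.TensorProduct.rightAlgebra in
theorem finitePresentation_of_univInjective
    (h : ∀ (P : Type u) [AddCommGroup P] [Module R P], Function.Injective (LinearMap.lTensor P (Algebra.linearMap R S)))
    (A : Type u) [CommRing A] [Algebra R A] [Algebra.FinitePresentation S (S ⊗[R] A)] :
    Algebra.FinitePresentation R A := by
  have : Algebra.FiniteType R A := finiteType_of_univInjective h A
  rw [Algebra.FiniteType.iff_quotient_mvPolynomial''] at this
  obtain ⟨n, f, hf⟩ := this
  refine .of_surjective hf ?_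
  set I := RingHom.ker f.toRingHom with hIdef
  let fT := Algebra.TensorProduct.map (.id S S) f
  let ι := algebraMap (MvPolynomial (Fin n) R) (S ⊗[R] MvPolynomial (Fin n) R)
  have hkerT : I.map ι = RingHom.ker fT := (Algebra.TensorProduct.lTensor_ker f hf).symm
  have hfg : (I.map ι).FG := by
    rw [hkerT]
    exact Algebra.FinitePresentation.ker_fG_of_surjective fT (Algebra.FiniteType.baseChangeAux_surj S hf)
  classical
  obtain ⟨t, hts, ht⟩ := (Submodule.fg_span_iff_fg_span_finset_subset (R := S ⊗[R] MvPolynomial (Fin n) R) (ι '' (I : Set (MvPolynomial (Fin n) R)))).mp hfg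
  obtain ⟨s, hsI, hs⟩ := Finset.subset_set_image_iff.mp hts
  refine ⟨s, le_antisymm (Submodule.span_le.mpr fun x hx => hsI hx) ?_⟩
  let I0 := Ideal.span (s : Set (MvPolynomial (Fin n) R))
  show I ≤ I0
  have hI0map : I0.map ι = I.map ι := by
    rw [Ideal.map_span, ← Finset.coe_image, hs]
    exact ht.symm
  intro x hx
  let mk0 := Ideal.Quotient.mkₐ R I0
  have hker0 : I0.map ι = RingHom.ker (Algebra.TensorProduct.map (.id S S) mk0) := by
    conv_lhs => rw [show I0 = RingHom.ker mk0 from (Ideal.mk_ker (I := I0)).symm]
    exact (Algebra.TensorProduct.lTensor_ker mk0 (Ideal.Quotient.mkₐ_surjective R I0)).symm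
  have h1 : ι x ∈ I0.map ι := hI0map ▸ Ideal.mem_map_of_mem ι hx
  rw [hker0, RingHom.mem_ker] at h1
  have h2 : (1 : S) ⊗ₜ[R] mk0 x = 0 := by
    rw [← h1]; rfl
  exact Ideal.Quotient.eq_zero_iff_mem.mp (one_tmul_injective h _ _ h2)

attribute [local instance] Algebra.TensorProduct.rightAlgebra in
theorem etale_of_univInjective
    (h : ∀ (P : Type u) [AddCommGroup P] [Module R P], Function.Injective (LinearMap.lTensor P (Algebra.linearMap R S)))
    (A : Type u) [CommRing A] [Algebra R A] [Algebra.Etale S (S ⊗[R] A)] : Algebra.Etale R A := by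
  haveI : Algebra.FinitePresentation R A := finitePresentation_of_univInjective h A
  haveI : Module.Flat R A := flat_of_univInjective h A
  haveI : Algebra.FormallyUnramified R A := by
    constructor
    have : Subsingleton (S ⊗[R] Ω[A⁄R]) :=
      (KaehlerDifferential.tensorKaehlerEquivBase R S A (S ⊗[R] A)).subsingleton
    exact subsingleton_of_forall_eq 0 fun x => one_tmul_injective h _ x (Subsingleton.elim _ _)
  exact Algebra.Etale.of_formallyUnramified_of_flat

end Groth.Agent.Pi1Alg
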